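import Mathlib.RepresentationTheory.Basic
import Mathlib.LinearAlgebra.Dimension.Finrank
import Mathlib.Data.ZMod.Basic
import Cfsg.Prelude.Def_Transfer
import Cfsg.Prelude.Def_CaseTheorems
import Cfsg.Prelude.Def_Local
import Cfsg.Prelude.Def_LieTypeChar
import Cfsg.Prelude.Def_Classification2

/-!
# S3088, S3089 (2F-modules): interface (helper85).  Plan: `notes/TwoF/plan.md`

`ρ : Representation k Y V`; `fx ρ B` the fixed vectors of `B`, `cod ρ B` their codimension, `codOn ρ U B` the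
codimension of `U ⊓ fx ρ B` in `U`.  `Off p ρ B`: `B` is an offender (`p ^ cod ≤ |B| ^ 2`).  `Cub ρ B`: cubic action.
`Stp p K ρ`: the standing hypotheses (`K = F*(Y)` quasisimple, `V` faithful irreducible over `ZMod p`).
`Row p S`: both goals for every setup with `K / Z(K) ≅ S`.
-/

set_option autoImplicit false

namespace Cfsg.Agent.TwoF

open Module

section defs

variable {k : Type*} [Field k] {Y : Type*} [Group Y] {V : Type*} [AddCommGroup V] [Module k V]

/-- the vectors fixed by `B` -/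
def fx (ρ : Representation k Y V) (B : Subgroup Y) : Submodule k V where
  carrier := {v | ∀ b ∈ B, ρ b v = v}
  add_mem' := fun {a c} ha hc b hb => by rw [map_add, ha b hb, hc b hb]
  zero_mem' := fun b _ => map_zero _
  smul_mem' := fun t v hv b hb => by rw [map_smul, hv b hb]

theorem mem_fx {ρ : Representation k Y V} {B : Subgroup Y} {v : V} : v ∈ fx ρ B ↔ ∀ b ∈ B, ρ b v = v := Iff.rfl

/-- the codimension of the fixed vectors of `B` -/
noncomputable def cod (ρ : Representation k Y V) (B : Subgroup Y) : ℕ := finrank k V - finrank k (fx ρ B)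

/-- the codimension in `U` of the vectors of `U` fixed by `B` -/
noncomputable def codOn (ρ : Representation k Y V) (U : Submodule k V) (B : Subgroup Y) : ℕ :=
  finrank k U - finrank k ↥(U ⊓ fx ρ B)

/-- `U` is invariant under `B` -/
def Inv (ρ : Representation k Y V) (B : Subgroup Y) (U : Submodule k V) : Prop := ∀ b ∈ B, ∀ v ∈ U, ρ b v ∈ U

/-- `B` acts irreducibly (or `V = 0`) -/
def Irr (ρ : Representation k Y V) (B : Subgroup Y) : Prop := ∀ U : Submodule k V, Inv ρ B U → U = ⊥ ∨ U = ⊤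

/-- offender on the submodule `U` -/
def OffOn (p : ℕ) (ρ : Representation k Y V) (U : Submodule k V) (B : Subgroup Y) : Prop :=
  IsElementaryAbelian p B ∧ B ≠ ⊥ ∧ p ^ codOn ρ U B ≤ Nat.card B ^ 2

/-- offender -/
def Off (p : ℕ) (ρ : Representation k Y V) (B : Subgroup Y) : Prop :=
  IsElementaryAbelian p B ∧ B ≠ ⊥ ∧ p ^ cod ρ B ≤ Nat.card B ^ 2

/-- cubic action -/
def Cub (ρ : Representation k Y V) (B : Subgroup Y) : Prop :=
  ∀ a ∈ B, ∀ b ∈ B, ∀ c ∈ B, (ρ a - 1) * (ρ b - 1) * (ρ c - 1) = 0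

/-- `A` commutes with every endomorphism that commutes with `K` -/
def LinOver (ρ : Representation k Y V) (K A : Subgroup Y) : Prop :=
  ∀ f : Module.End k V, (∀ x ∈ K, f * ρ x = ρ x * f) → ∀ a ∈ A, f * ρ a = ρ a * f

end defs

section goals

variable {Y : Type} [Group Y] {V : Type} [AddCommGroup V]

/-- the standing hypotheses -/
structure Stp (p : ℕ) [Fact p.Prime] [Module (ZMod p) V] (K : Subgroup Y) (ρ : Representation (ZMod p) Y V) :
    Prop where
  normal : K.Normal
  qs : IsQuasisimple K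
  cent : Subgroup.centralizer (K : Set Y) ≤ K
  cop : ¬ p ∣ Nat.card (Subgroup.center K)
  faithful : Function.Injective ρ
  irr : Irr ρ ⊤

/-- goal of S3088 -/
def G88 (p : ℕ) [Fact p.Prime] [Module (ZMod p) V] (ρ : Representation (ZMod p) Y V) : Prop :=
  ∀ A : Subgroup Y, Off p ρ A → ∃ B : Subgroup Y, Off p ρ B ∧ Cub ρ B

/-- goal of S3089: an offender inside `K` on SOME nonzero `K`-invariant subspace -/
def G89 (p : ℕ) [Fact p.Prime] [Module (ZMod p) V] (K : Subgroup Y) (ρ : Representation (ZMod p) Y V) : Prop :=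
  ∀ A : Subgroup Y, Off p ρ A → ∃ B ≤ K, ∃ U : Submodule (ZMod p) V, U ≠ ⊥ ∧ Inv ρ K U ∧ OffOn p ρ U B

/-- reduced goal of S3089: `K` irreducible, `Y = K A`, `A` linear over `End_K V`, `A` not inside `K` -/
def G89r (p : ℕ) [Fact p.Prime] [Module (ZMod p) V] (K : Subgroup Y) (ρ : Representation (ZMod p) Y V) : Prop :=
  ∀ A : Subgroup Y, Off p ρ A → Irr ρ K → K ⊔ A = ⊤ → LinOver ρ K A → ¬ A ≤ K → ∃ B ≤ K, Off p ρ B

end goals

/-- the S3088 row of a simple group `S` -/
def Row88 (p : ℕ) [Fact p.Prime] (S : Type) [Group S] : Prop :=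
  ∀ (Y : Type) [Group Y] [Finite Y] (V : Type) [AddCommGroup V] [Module (ZMod p) V] [Finite V]
    (K : Subgroup Y) (ρ : Representation (ZMod p) Y V), Stp p K ρ → Nonempty (K ⧸ Subgroup.center K ≃* S) → G88 p ρ

/-- the (reduced) S3089 row of a simple group `S` -/
def Row89 (p : ℕ) [Fact p.Prime] (S : Type) [Group S] : Prop :=
  ∀ (Y : Type) [Group Y] [Finite Y] (V : Type) [AddCommGroup V] [Module (ZMod p) V] [Finite V]
    (K : Subgroup Y) (ρ : Representation (ZMod p) Y V), Stp p K ρ → Nonempty (K ⧸ Subgroup.center K ≃* S) →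
      G89r p K ρ

/-- both rows -/
def Row (p : ℕ) [Fact p.Prime] (S : Type) [Group S] : Prop := Row88 p S ∧ Row89 p S

/-- no offender at all -/
def NoOff (p : ℕ) [Fact p.Prime] (S : Type) [Group S] : Prop :=
  ∀ (Y : Type) [Group Y] [Finite Y] (V : Type) [AddCommGroup V] [Module (ZMod p) V] [Finite V]
    (K : Subgroup Y) (ρ : Representation (ZMod p) Y V), Stp p K ρ → Nonempty (K ⧸ Subgroup.center K ≃* S) →
      ∀ A : Subgroup Y, ¬ Off p ρ A

theorem NoOff.row {p : ℕ} [Fact p.Prime] {S : Type} [Group S] (h : NoOff p S) : Row p S :=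
  ⟨fun Y _ _ V _ _ _ K ρ hs he A hA => (h Y V K ρ hs he A hA).elim,
    fun Y _ _ V _ _ _ K ρ hs he A hA => (h Y V K ρ hs he A hA).elim⟩

theorem Row.of_equiv {p : ℕ} [Fact p.Prime] {S T : Type} [Group S] [Group T] (h : Row p T) (e : S ≃* T) :
    Row p S :=
  ⟨fun Y _ _ V _ _ _ K ρ hs he => h.1 Y V K ρ hs (he.map fun f => f.trans e),
    fun Y _ _ V _ _ _ K ρ hs he => h.2 Y V K ρ hs (he.map fun f => f.trans e)⟩

/-! ### the boxes -/

/-- defining characteristic -/
def BoxDC : Prop :=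
  ∀ (p : ℕ) [Fact p.Prime] (S : Type) [Group S] [Finite S] [IsSimpleGroup S], IsLieTypeChar p S → Row p S

/-- alternating groups (one may assume that `S` is not of Lie type in characteristic `p`) -/
def BoxAlt : Prop :=
  ∀ (p : ℕ) [Fact p.Prime] (n : ℕ), 5 ≤ n → ¬ IsLieTypeChar p (alternatingGroup (Fin n)) →
    Row p (alternatingGroup (Fin n))

/-- the other families: `S` is neither of Lie type in characteristic `p` nor alternating -/
def Box (P : ∀ (S : Type) [Group S], Prop) : Prop :=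
  ∀ (p : ℕ) [Fact p.Prime] (S : Type) [Group S] [Finite S] [IsSimpleGroup S], P S → ¬ IsLieTypeChar p S →
    ¬ IsAlternating S → Row p S

/-- all the boxes -/
structure Boxes : Prop where
  dc : BoxDC
  alt : BoxAlt
  psl : Box fun K _ => IsPSL K
  psp : Box fun K _ => IsPSp K
  psu : Box fun K _ => IsPSU K
  oodd : Box fun K _ => IsPOmegaOdd K
  oplus : Box fun K _ => IsPOmegaPlus K
  ominus : Box fun K _ => IsPOmegaMinus K
  g2 : Box fun K _ => Lie.IsoChevG2 K
  f4 : Box fun K _ => Lie.IsoF4 K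
  e6 : Box fun K _ => Lie.IsoChevE6 K
  e7 : Box fun K _ => Lie.IsoE7 K
  e8 : Box fun K _ => Lie.IsoE8 K
  te6 : Box fun K _ => Lie.Iso2E6 K
  td4 : Box fun K _ => Lie.Iso3D4 K
  sz : Box fun K _ => Lie.IsoSuzuki K
  ree : Box fun K _ => Lie.IsoRee K
  tf4 : Box fun K _ => Lie.Iso2F4 K
  tits : Box fun K _ => Lie.IsoTits K
  spor : Box fun K _ => IsSporadicGroup K

theorem Boxes.row (B : Boxes) (p : ℕ) [Fact p.Prime] (K : Type) [Group K] [Finite K] [IsSimpleGroup K]
    (hK : ¬ IsMulCommutative K) (h : IsKnownSimple' K) : Row p K := by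
  by_cases h1 : IsLieTypeChar p K
  · exact B.dc p K h1
  by_cases h2 : IsAlternating K
  · obtain ⟨n, hn, ⟨e⟩⟩ := h2
    by_cases h3 : IsLieTypeChar p (alternatingGroup (Fin n))
    · haveI : Fact (5 ≤ Nat.card (Fin n)) := ⟨by simpa using hn⟩
      haveI : IsSimpleGroup (alternatingGroup (Fin n)) := e.symm.isSimpleGroup
      exact (B.dc p _ h3).of_equiv e
    · exact (B.alt p n hn h3).of_equiv e
  rcases h with h | h | h | h | h | h | h | h | h | h
  · exfalso
    have : Fact (Nat.card K).Prime := ⟨h⟩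
    have hc : IsCyclic K := isCyclic_of_prime_card (p := Nat.card K) rfl
    exact hK ⟨⟨fun a b => (IsCyclic.commGroup (α := K)).mul_comm a b⟩⟩
  · exact (h2 h).elim
  · exact B.psl p K h h1 h2
  · exact B.psp p K h h1 h2
  · exact B.psu p K h h1 h2
  · exact B.oodd p K h h1 h2
  · exact B.oplus p K h h1 h2
  · exact B.ominus p K h h1 h2
  · rcases h with h | h | h | h | h | h | h | h | h | h | h
    · exact B.g2 p K h h1 h2
    · exact B.f4 p K h h1 h2
    · exact B.e6 p K h h1 h2
    · exact B.e7 p K h h1 h2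
    · exact B.e8 p K h h1 h2
    · exact B.te6 p K h h1 h2
    · exact B.td4 p K h h1 h2
    · exact B.sz p K h h1 h2
    · exact B.ree p K h h1 h2
    · exact B.tf4 p K h h1 h2
    · exact B.tits p K h h1 h2
  · exact B.spor p K h h1 h2

/-- all rows -/
def AllRows : Prop :=
  ∀ (p : ℕ) [Fact p.Prime] (S : Type) [Group S] [Finite S] [IsSimpleGroup S], ¬ IsMulCommutative S → Row p S

end Cfsg.Agent.TwoF
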